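import Groth.Agent.PicLoc.K729.Bc
import Groth.Agent.PicLoc.K729.ClsGen
import Mathlib.RingTheory.Derivation.Basic

/-!
# The Picard group of a square-zero thickening: the interface

`Y ⊆ X` square-zero, `C = H⁰(Y, 𝒪)`, `M = H¹(X, N)`, `H = H²(X, N)`, `δ : C → M` the connecting derivation.
For a flat `R`-algebra `S`: `(S ⊗ C)ˣ → S ⊗ M → Pic X_S → Pic Y_S → S ⊗ H`, naturally in `S`.
-/

set_option autoImplicit false
set_option backward.isDefEq.respectTransparency false
universe u

open CategoryTheory CategoryTheory.Limits AlgebraicGeometry Opposite TensorProduct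

namespace K811.NilDef

section act

variable {R : Type u} [CommRing R] (S : Type u) [CommRing S] [Algebra R S]
variable (C : Type u) [CommRing C] [Algebra R C]
variable (M : Type u) [AddCommGroup M] [Module R M] [Module C M] [IsScalarTower R C M]

/-- The action of `S ⊗ C` on `S ⊗ M`. -/
noncomputable def actHom : S ⊗[R] C →ₐ[R] Module.End R (S ⊗[R] M) :=
  Algebra.TensorProduct.lift
    { toFun := fun s => LinearMap.rTensor M (LinearMap.mulLeft R s)
      map_one' := by rw [LinearMap.mulLeft_one, LinearMap.rTensor_id]; rfl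
      map_mul' := fun a b => by
        rw [LinearMap.mulLeft_mul, LinearMap.rTensor_comp]; rfl
      map_zero' := by rw [LinearMap.mulLeft_zero_eq_zero, LinearMap.rTensor_zero]
      map_add' := fun a b => by
        ext x y
        simp [add_mul, TensorProduct.add_tmul]
      commutes' := fun r => by
        ext x y
        simp [Algebra.algebraMap_eq_smul_one, TensorProduct.smul_tmul'] }
    { toFun := fun c => LinearMap.lTensor S ((Algebra.lsmul R R M).toLinearMap c)
      map_one' := by ext x y; simp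
      map_mul' := fun a b => by ext x y; simp [mul_smul]
      map_zero' := by ext x y; simp
      map_add' := fun a b => by ext x y; simp [add_smul, TensorProduct.tmul_add]
      commutes' := fun r => by ext x y; simp }
    (fun s c => by
      change LinearMap.comp _ _ = LinearMap.comp _ _
      ext x y
      simp)

variable {S C M}

/-- The action of `S ⊗ C` on `S ⊗ M`. -/
noncomputable def act (c : S ⊗[R] C) (x : S ⊗[R] M) : S ⊗[R] M := actHom S C M c x

@[simp]
theorem act_tmul (s t : S) (c : C) (m : M) : act (s ⊗ₜ[R] c) (t ⊗ₜ[R] m) = (s * t) ⊗ₜ[R] (c • m) := by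
  simp [act, actHom]

end act

/-- The Picard groups of a square-zero thickening `i : Y ⟶ X` (`f : X ⟶ Spec R`), over all flat `R`-algebras. -/
structure PicNil {R : Type u} [CommRing R] {X Y : Scheme.{u}} (f : X ⟶ Spec (CommRingCat.of R)) (i : Y ⟶ X) where
  /-- `H⁰(Y, 𝒪)` -/
  C : Type u
  /-- `H¹(X, N)` -/
  M : Type u
  /-- `H²(X, N)` -/
  H : Type u
  [ringC : CommRing C]
  [algC : Algebra R C]
  [finC : Module.Finite R C]
  [grpM : AddCommGroup M]
  [modM : Module R M]
  [modCM : Module C M]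
  [towM : IsScalarTower R C M]
  [finM : Module.Finite R M]
  [grpH : AddCommGroup H]
  [modH : Module R H]
  /-- the connecting map -/
  δ : Derivation R C M
  /-- `S ⊗ M → Pic X_S` -/
  ι : ∀ D : Under (CommRingCat.of R), K729.Bc.Rg D ⊗[R] M →+ Additive (K858.Basic.Pic (K729.Bc.bc f D))
  /-- `Pic Y_S → S ⊗ H` -/
  ob : ∀ D : Under (CommRingCat.of R), Additive (K858.Basic.Pic (K729.Bc.bc (i ≫ f) D)) →+ K729.Bc.Rg D ⊗[R] H
  ι_nat : ∀ {D E : Under (CommRingCat.of R)} (g : D ⟶ E), D.hom.hom.Flat → E.hom.hom.Flat →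
    ∀ x, (K858.Basic.pull (K729.Bc.bcMap f g) (ι D x).toMul : K858.Basic.Pic (K729.Bc.bc f E)) =
      (ι E ((K729.Bc.rmap g).toLinearMap.rTensor M x)).toMul
  ι_ker : ∀ (D : Under (CommRingCat.of R)), D.hom.hom.Flat → ∀ x,
    (ι D x = 0 ↔ ∃ c : (K729.Bc.Rg D ⊗[R] C)ˣ, δ.toLinearMap.lTensor (K729.Bc.Rg D) c.1 = act c.1 x)
  ι_range : ∀ (D : Under (CommRingCat.of R)), D.hom.hom.Flat → ∀ y : K858.Basic.Pic (K729.Bc.bc f D),
    (K858.Basic.pull (pullback.map (i ≫ f) (Spec.map D.hom) f (Spec.map D.hom) i (𝟙 _) (𝟙 _) (by simp) (by simp) :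
      K729.Bc.bc (i ≫ f) D ⟶ K729.Bc.bc f D) y = 1 ↔ ∃ x, (ι D x).toMul = y)
  ob_nat : ∀ {D E : Under (CommRingCat.of R)} (g : D ⟶ E), D.hom.hom.Flat → E.hom.hom.Flat →
    ∀ y : K858.Basic.Pic (K729.Bc.bc (i ≫ f) D), ob E (Additive.ofMul (K858.Basic.pull (K729.Bc.bcMap (i ≫ f) g) y)) =
      (K729.Bc.rmap g).toLinearMap.rTensor H (ob D (Additive.ofMul y))
  ob_ker : ∀ (D : Under (CommRingCat.of R)), D.hom.hom.Flat → ∀ y : K858.Basic.Pic (K729.Bc.bc (i ≫ f) D),
    (ob D (Additive.ofMul y) = 0 ↔ ∃ y' : K858.Basic.Pic (K729.Bc.bc f D),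
      K858.Basic.pull (pullback.map (i ≫ f) (Spec.map D.hom) f (Spec.map D.hom) i (𝟙 _) (𝟙 _) (by simp) (by simp) :
      K729.Bc.bc (i ≫ f) D ⟶ K729.Bc.bc f D) y' = y)

end K811.NilDef
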